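import Cfsg.Agent.Lib.RC2.El
import Cfsg.Agent.Lib.PPI.Bas
import Cfsg.Agent.Lib.PSL2.Extra

/-! # S3860: real elements of odd order with centralizer of odd order in PSL(2,q) and A7 -/

set_option autoImplicit false
set_option linter.unusedSectionVars false
set_option linter.unusedVariables false

namespace Cfsg.Lib.RC2

open Subgroup Cfsg.Lib.BG Cfsg.Lib.GW Cfsg.Lib.CT Cfsg.Lib.Transfer
open scoped Cfsg.Lib.Transfer

variable {G : Type*} [Group G] [Finite G] {m : ℕ} {H K P R S T X Y : Subgroup G}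
  {a c d e f g h r s t u v w x y z d' f' g' x' : G}

/-- `q ≡ 1 mod 4`: a unipotent element (`centralizer_of_mem_unipL`, `card_unipL`, cf. `PPI.oc_unip`), inverted
by `diag(i, i⁻¹)`, `i² = -1`.  `q ≡ 3 mod 4` (so `q ≥ 7`): an element `≠ 1` of the split torus, whose order
`(q-1)/2` is odd; it is inverted by the Weyl element and its centralizer is the torus. -/
theorem psl_ro {F : Type*} [Field F] [Finite F] (ho : Odd (Nat.card F)) (h3 : 3 < Nat.card F) :
    ∃ y : Matrix.ProjectiveSpecialLinearGroup (Fin 2) F, RO y ∧ Odd (Nat.card ↥𝐂[y]) := by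
  have key : ∀ (a b : PSL2.P1 (AlgebraicClosure F)) (n : ℕ), PSL2.TorusPair F a b n → n % 4 = 2 → 2 < n →
      ∃ y : Matrix.ProjectiveSpecialLinearGroup (Fin 2) F, RO y ∧ Odd (Nat.card ↥𝐂[y]) := by
    intro a b n h hn h2
    have hc := h.card_torusL_mul
    rw [PSL2.gcd_two_eq_of_odd ho] at hc
    have hodd : Odd (Nat.card (PSL2.torusL F a b)) := Nat.odd_iff.2 (by omega)
    have hne : PSL2.torusL F a b ≠ ⊥ := fun e => by
      rw [e, card_bot] at hc; omega
    obtain ⟨⟨y, hy⟩, hy1⟩ := ne_bot_iff_exists_ne_one.1 hne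
    have y1 : y ≠ 1 := fun e => hy1 (Subtype.ext e)
    have oy : Odd (orderOf y) := Odd.of_dvd_nat hodd (orderOf_dvd_natCard _ hy)
    have y2 : y * y ≠ 1 := fun e => y1 (tw_eq_one (tw_inv2 e) oy)
    obtain ⟨s, hs, hs'⟩ := SetLike.not_le_iff_exists.1 h.not_dihL_le_torusL
    refine ⟨y, ⟨y1, oy, s, PSL2.conj_eq_inv_dihL h.1 hs hs' hy⟩, ?_⟩
    rw [PSL2.centralizer_of_mem_torusL h.1 hy y2]
    exact hodd
  obtain ⟨k, hk⟩ := ho
  by_cases h4 : Nat.card F % 4 = 1
  · obtain ⟨a, b, h⟩ := PSL2.exists_torusPair_nonsplit F (AlgebraicClosure F)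
    exact key a b _ h (by omega) (by omega)
  · obtain ⟨a, b, h⟩ := PSL2.exists_torusPair_split F (AlgebraicClosure F)
    exact key a b _ h (by omega) (by omega)

/-- A 5-cycle, inverted by a double transposition; an involution commuting with it fixes its five points, so
it is trivial or an odd permutation. -/
theorem alt_ro : ∃ y : alternatingGroup (Fin 7), RO y ∧ Odd (Nat.card ↥𝐂[y]) := by
  let y : alternatingGroup (Fin 7) := ⟨c[0, 1, 2, 3, 4], Equiv.Perm.mem_alternatingGroup.2 (by decide)⟩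
  let t : alternatingGroup (Fin 7) :=
    ⟨Equiv.swap 1 4 * Equiv.swap 2 3, Equiv.Perm.mem_alternatingGroup.2 (by decide)⟩
  have := Fact.mk Nat.prime_five
  have o5 : orderOf y = 5 := orderOf_eq_prime (by decide +kernel) (by decide)
  refine ⟨y, ⟨by decide, by rw [o5]; decide, t, show t * y * t⁻¹ = y⁻¹ by decide +kernel⟩, ?_⟩
  have h := Equiv.Perm.nat_card_centralizer (y : Equiv.Perm (Fin 7))
  rw [show (y : Equiv.Perm (Fin 7)).cycleType = {5} by decide +kernel] at h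
  have h7 : Nat.card 𝐂[(y : Equiv.Perm (Fin 7))] = 10 := h.trans (by decide)
  have h5 : 5 ∣ Nat.card 𝐂[y] := o5 ▸ orderOf_dvd_natCard _ (mem_cent1.2 rfl)
  have : 𝐂[y] = (𝐂[(y : Equiv.Perm (Fin 7))]).subgroupOf _ := by
    ext z; simp [mem_subgroupOf, mem_centralizer_singleton_iff, Subtype.ext_iff]
  rw [this, ← inf_subgroupOf_right, Nat.card_congr (subgroupOfEquivOfLe inf_le_right).toEquiv] at h5 ⊢
  have hd := (card_dvd_of_le (inf_le_left (a := 𝐂[(y : Equiv.Perm (Fin 7))])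
    (b := alternatingGroup (Fin 7)))).trans h7.dvd
  have hne : Nat.card ↥(𝐂[(y : Equiv.Perm (Fin 7))] ⊓ alternatingGroup (Fin 7)) ≠ 10 := fun e => by
    have e' := eq_of_le_of_card_ge (inf_le_left (a := 𝐂[(y : Equiv.Perm (Fin 7))])
      (b := alternatingGroup (Fin 7))) (by rw [e, h7])
    have m : Equiv.swap (5 : Fin 7) 6 ∈ 𝐂[(y : Equiv.Perm (Fin 7))] := mem_cent1.2 (by decide +kernel)
    rw [← e'] at m
    exact absurd (Equiv.Perm.mem_alternatingGroup.1 m.2) (by decide)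
  generalize Nat.card ↥(𝐂[(y : Equiv.Perm (Fin 7))] ⊓ alternatingGroup (Fin 7)) = n at *
  have := Nat.le_of_dvd (by norm_num) hd
  interval_cases n <;> first | decide | omega

theorem ro_equiv {G' : Type*} [Group G'] [Finite G'] (e : G ≃* G')
    (h : ∃ y : G', RO y ∧ Odd (Nat.card ↥𝐂[y])) : ∃ y : G, RO y ∧ Odd (Nat.card ↥𝐂[y]) := by
  obtain ⟨y, ⟨h1, h2, t, ht⟩, h3⟩ := h
  refine ⟨e.symm y, ⟨fun k => h1 ((MulEquiv.map_eq_one_iff _).1 k), by rwa [MulEquiv.orderOf_eq],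
    e.symm t, ht.map e.symm.toMonoidHom⟩, ?_⟩
  rwa [PPI.card_cent1_equiv]

theorem known_ro (h : Known G) : ∃ y : G, RO y ∧ Odd (Nat.card ↥𝐂[y]) := by
  rcases h with ⟨F, _, _, ho, h3, ⟨e⟩⟩ | ⟨⟨e⟩⟩
  · exact ro_equiv e (psl_ro (by rwa [Nat.card_eq_fintype_card]) (by rwa [Nat.card_eq_fintype_card]))
  · exact ro_equiv e alt_ro

end Cfsg.Lib.RC2
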